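import Cfsg.Agent.H183.RC.Defs

/-!
# S3510, row C, part I (helper366): the swapping involutory field automorphism
-/

set_option autoImplicit false

open Cfsg Matrix Cfsg.Agent.H106.RC Cfsg.Agent.H183.RC

namespace Cfsg.Agent.H366.RC

section field

variable {F : Type*} [Field F] [Finite F] (σ : F ≃+* F) (h2 : ∀ a, σ (σ a) = a) (h1 : σ ≠ 1)

include h2 h1

/-- norms from a quadratic extension -/
theorem exists_norm {ν : F} (hν : σ ν = ν) (hν0 : ν ≠ 0) : ∃ μ : Fˣ, (μ : F) * σ μ = ν := by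
  let σu : Fˣ →* Fˣ := Units.map (σ : F →* F)
  have hσu : ∀ u : Fˣ, ((σu u : Fˣ) : F) = σ (u : F) := fun u => rfl
  let φ : Fˣ →* Fˣ :=
    { toFun := fun u => u * σu u
      map_one' := by rw [map_one, mul_one]
      map_mul' := fun a b => by rw [map_mul]; exact mul_mul_mul_comm _ _ _ _ }
  let ψ : Fˣ →* Fˣ :=
    { toFun := fun u => u * (σu u)⁻¹
      map_one' := by rw [map_one, inv_one, mul_one]
      map_mul' := fun a b => by rw [map_mul, mul_inv]; exact mul_mul_mul_comm _ _ _ _ }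
  have hφ : ∀ u, φ u = u * σu u := fun u => rfl
  have hψ : ∀ u, ψ u = u * (σu u)⁻¹ := fun u => rfl
  have h90 : φ.ker = ψ.range := by
    ext u
    rw [MonoidHom.mem_ker, MonoidHom.mem_range, hφ]
    constructor
    · intro hu
      have hu' : (u : F) * σ u = 1 := by
        rw [← hσu, ← Units.val_mul, hu, Units.val_one]
      by_cases h : (1 : F) + u = 0
      · -- `u = -1`
        obtain ⟨b, hb⟩ : ∃ b, σ b ≠ b := by
          by_contra hcon
          push Not at hcon
          exact h1 (RingEquiv.ext hcon)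
        have hb0 : b - σ b ≠ 0 := fun h => hb (sub_eq_zero.mp h).symm
        refine ⟨Units.mk0 _ hb0, ?_⟩
        rw [hψ, mul_inv_eq_iff_eq_mul]
        apply Units.ext
        rw [Units.val_mul, hσu, Units.val_mk0, map_sub, h2]
        have hu1 : (u : F) = -1 := by linear_combination h
        rw [hu1]
        ring
      · refine ⟨Units.mk0 _ h, ?_⟩
        rw [hψ, mul_inv_eq_iff_eq_mul]
        apply Units.ext
        rw [Units.val_mul, hσu, Units.val_mk0, map_add, map_one]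
        linear_combination -hu'
    · rintro ⟨a, rfl⟩
      rw [hψ]
      apply Units.ext
      have ha : (a : F) ≠ 0 := a.ne_zero
      have hσa : σ (a : F) ≠ 0 := by
        intro h
        exact ha ((map_eq_zero σ).mp h)
      rw [Units.val_mul, hσu, Units.val_mul, Units.val_inv_eq_inv_val, hσu, map_mul, map_inv₀, h2, Units.val_one]
      field_simp
  have hle : φ.range ≤ ψ.ker := by
    rintro _ ⟨a, rfl⟩
    rw [MonoidHom.mem_ker, hψ, hφ, mul_inv_eq_one]
    apply Units.ext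
    rw [hσu, Units.val_mul, hσu, map_mul, h2]
    ring
  have hc1 : Nat.card φ.ker * Nat.card φ.range = Nat.card Fˣ := by
    rw [← Subgroup.index_ker, Subgroup.card_mul_index]
  have hc2 : Nat.card ψ.ker * Nat.card ψ.range = Nat.card Fˣ := by
    rw [← Subgroup.index_ker, Subgroup.card_mul_index]
  have heq : φ.range = ψ.ker := by
    apply Subgroup.eq_of_le_of_card_ge hle
    rw [h90, mul_comm, ← hc2] at hc1
    exact (Nat.eq_of_mul_eq_mul_right Nat.card_pos hc1).ge
  have hmem : Units.mk0 ν hν0 ∈ φ.range := by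
    rw [heq, MonoidHom.mem_ker, hψ, mul_inv_eq_one]
    apply Units.ext
    rw [hσu, Units.val_mk0, hν]
  obtain ⟨μ, hμ⟩ := hmem
  refine ⟨μ, ?_⟩
  have := congrArg Units.val hμ
  rw [hφ, Units.val_mul, hσu, Units.val_mk0] at this
  exact this

omit h1 in
/-- the fixed field is not too small -/
theorem exists_fixed (h16 : 16 ≤ Nat.card F) : ∃ u : F, σ u = u ∧ u ≠ 0 ∧ u ^ 2 ≠ 1 := by
  by_contra hcon
  push Not at hcon
  let K : AddSubgroup F :=
    { carrier := {a | σ a = a}
      add_mem' := fun {a b} ha hb => by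
        change σ (a + b) = a + b
        rw [map_add, ha, hb]
      zero_mem' := map_zero σ
      neg_mem' := fun {a} ha => by
        change σ (-a) = -a
        rw [map_neg, ha] }
  have hK : ∀ a : F, a ∈ K ↔ σ a = a := fun a => Iff.rfl
  have hK3 : Nat.card K ≤ 3 := by
    have h3 : (K : Set F) ⊆ ({0, 1, -1} : Set F) := by
      intro a ha
      by_cases h0 : a = 0
      · exact Or.inl h0
      · right
        exact sq_eq_one_iff.mp (hcon a ha h0)
    have h4 := Set.ncard_le_ncard h3 (Set.toFinite _)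
    have h5 : ({0, 1, -1} : Set F).ncard ≤ 3 := by
      classical
      have h6 : ({0, 1, -1} : Set F) = (({0, 1, -1} : Finset F) : Set F) := by simp
      rw [h6, Set.ncard_coe_finset]
      exact Finset.card_le_three
    exact (h4.trans h5)
  let τ : F →+ F :=
    { toFun := fun a => a + σ a
      map_zero' := by rw [map_zero, add_zero]
      map_add' := fun a b => by rw [map_add]; ring }
  have hτ : ∀ a, τ a = a + σ a := fun a => rfl
  have hr : τ.range ≤ K := by
    rintro _ ⟨a, rfl⟩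
    rw [hK, hτ, map_add, h2, add_comm]
  have hr3 : Nat.card τ.range ≤ 3 := (AddSubgroup.card_le_of_le hr).trans hK3
  have hk3 : Nat.card τ.ker ≤ 3 := by
    by_cases hb : ∃ b ∈ τ.ker, b ≠ 0
    · obtain ⟨b, hb, hb0⟩ := hb
      rw [AddMonoidHom.mem_ker, hτ] at hb
      have hsb : σ b = -b := by linear_combination hb
      have hinj : Function.Injective (fun a : τ.ker => (⟨(a : F) / b, by
          have ha := a.2
          rw [AddMonoidHom.mem_ker, hτ] at ha
          have hsa : σ (a : F) = -a := by linear_combination ha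
          rw [hK, map_div₀, hsa, hsb, neg_div_neg_eq]⟩ : K)) := by
        intro a a' h
        have h3 := congrArg Subtype.val h
        apply Subtype.ext
        exact (div_left_inj' hb0).mp h3
      exact (Nat.card_le_card_of_injective _ hinj).trans hK3
    · push Not at hb
      have : τ.ker = ⊥ := by
        rw [eq_bot_iff]
        intro b hb'
        exact hb b hb'
      rw [this, AddSubgroup.card_bot]
      norm_num
  have hc : Nat.card τ.ker * Nat.card τ.range = Nat.card F := by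
    rw [← AddSubgroup.index_ker, AddSubgroup.card_mul_index]
  have : Nat.card τ.ker * Nat.card τ.range ≤ 3 * 3 := Nat.mul_le_mul hk3 hr3
  omega

end field

section torus

variable {F : Type*} [Field F]

/-- `diag(a, a⁻¹)` -/
def dg : Fˣ →* SL F where
  toFun a := ⟨!![(a : F), 0; 0, ((a⁻¹ : Fˣ) : F)], by
    rw [Matrix.det_fin_two_of, mul_zero, sub_zero, ← Units.val_mul, mul_inv_cancel, Units.val_one]⟩
  map_one' := by
    apply Subtype.ext
    ext i j
    fin_cases i <;> fin_cases j <;> simp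
  map_mul' a b := by
    apply Subtype.ext
    show (!![((a * b : Fˣ) : F), 0; 0, (((a * b)⁻¹ : Fˣ) : F)] : Matrix (Fin 2) (Fin 2) F) =
      !![(a : F), 0; 0, ((a⁻¹ : Fˣ) : F)] * !![(b : F), 0; 0, ((b⁻¹ : Fˣ) : F)]
    rw [Matrix.mul_fin_two]
    ext i j
    fin_cases i <;> fin_cases j <;> simp [mul_comm]

theorem dg_coe (a : Fˣ) : ((dg a : SL F) : Matrix (Fin 2) (Fin 2) F) = !![(a : F), 0; 0, ((a⁻¹ : Fˣ) : F)] := rfl

/-- the conjugate of an element of `SL` -/
def cj (P : GL (Fin 2) F) : SL F →* SL F where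
  toFun s := ⟨(P : Matrix (Fin 2) (Fin 2) F) * (s : Matrix (Fin 2) (Fin 2) F) * ((P⁻¹ : GL (Fin 2) F) : Matrix (Fin 2) (Fin 2) F), by
    rw [Matrix.det_units_conj, s.2]⟩
  map_one' := by
    apply Subtype.ext
    show (P : Matrix (Fin 2) (Fin 2) F) * (1 : Matrix (Fin 2) (Fin 2) F) * ((P⁻¹ : GL (Fin 2) F) : Matrix (Fin 2) (Fin 2) F) = 1
    rw [mul_one, ← Units.val_mul, mul_inv_cancel, Units.val_one]
  map_mul' s t := by
    apply Subtype.ext
    show (P : Matrix (Fin 2) (Fin 2) F) * ((s : Matrix (Fin 2) (Fin 2) F) * (t : Matrix (Fin 2) (Fin 2) F)) *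
        ((P⁻¹ : GL (Fin 2) F) : Matrix (Fin 2) (Fin 2) F) =
      (P : Matrix (Fin 2) (Fin 2) F) * (s : Matrix (Fin 2) (Fin 2) F) * ((P⁻¹ : GL (Fin 2) F) : Matrix (Fin 2) (Fin 2) F) *
      ((P : Matrix (Fin 2) (Fin 2) F) * (t : Matrix (Fin 2) (Fin 2) F) * ((P⁻¹ : GL (Fin 2) F) : Matrix (Fin 2) (Fin 2) F))
    have h : ((P⁻¹ : GL (Fin 2) F) : Matrix (Fin 2) (Fin 2) F) * (P : Matrix (Fin 2) (Fin 2) F) = 1 := by
      rw [← Units.val_mul, inv_mul_cancel, Units.val_one]
    calc (P : Matrix (Fin 2) (Fin 2) F) * ((s : Matrix (Fin 2) (Fin 2) F) * (t : Matrix (Fin 2) (Fin 2) F)) *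
          ((P⁻¹ : GL (Fin 2) F) : Matrix (Fin 2) (Fin 2) F)
        = (P : Matrix (Fin 2) (Fin 2) F) * (s : Matrix (Fin 2) (Fin 2) F) * 1 * (t : Matrix (Fin 2) (Fin 2) F) *
          ((P⁻¹ : GL (Fin 2) F) : Matrix (Fin 2) (Fin 2) F) := by rw [mul_one]; simp only [Matrix.mul_assoc]
      _ = _ := by rw [← h]; simp only [Matrix.mul_assoc]

theorem toGL_cj (P : GL (Fin 2) F) (s : SL F) :
    Matrix.SpecialLinearGroup.toGL (cj P s) = P * Matrix.SpecialLinearGroup.toGL s * P⁻¹ := by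
  apply Units.ext
  rfl

/-- the semilinear conjugate of a torus element -/
theorem conj_diag {A P : GL (Fin 2) F} {σ : F ≃+* F} {J : Matrix (Fin 2) (Fin 2) F}
    (hJ : (A : Matrix (Fin 2) (Fin 2) F) * (P : Matrix (Fin 2) (Fin 2) F).map σ = (P : Matrix (Fin 2) (Fin 2) F) * J)
    {a b : Fˣ} (hab : J * !![σ (a : F), 0; 0, σ ((a⁻¹ : Fˣ) : F)] = !![(b : F), 0; 0, ((b⁻¹ : Fˣ) : F)] * J) :
    ((cj P (dg b) : SL F) : Matrix (Fin 2) (Fin 2) F) =
      (A : Matrix (Fin 2) (Fin 2) F) * ((cj P (dg a) : SL F) : Matrix (Fin 2) (Fin 2) F).map σ *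
        ((A⁻¹ : GL (Fin 2) F) : Matrix (Fin 2) (Fin 2) F) := by
  have hA : (A : Matrix (Fin 2) (Fin 2) F) * ((A⁻¹ : GL (Fin 2) F) : Matrix (Fin 2) (Fin 2) F) = 1 := by
    rw [← Units.val_mul, mul_inv_cancel, Units.val_one]
  have hP : ((P⁻¹ : GL (Fin 2) F) : Matrix (Fin 2) (Fin 2) F) * (P : Matrix (Fin 2) (Fin 2) F) = 1 := by
    rw [← Units.val_mul, inv_mul_cancel, Units.val_one]
  have hP' : (P : Matrix (Fin 2) (Fin 2) F) * ((P⁻¹ : GL (Fin 2) F) : Matrix (Fin 2) (Fin 2) F) = 1 := by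
    rw [← Units.val_mul, mul_inv_cancel, Units.val_one]
  have hσP : (P : Matrix (Fin 2) (Fin 2) F).map σ * (((P⁻¹ : GL (Fin 2) F) : Matrix (Fin 2) (Fin 2) F)).map σ = 1 := by
    have := congrArg (fun M => (σ : F →+* F).mapMatrix M) hP'
    simp only [map_mul, map_one] at this
    exact this
  have h1 : ((cj P (dg a) : SL F) : Matrix (Fin 2) (Fin 2) F).map σ =
      (P : Matrix (Fin 2) (Fin 2) F).map σ * !![σ (a : F), 0; 0, σ ((a⁻¹ : Fˣ) : F)] *
        (((P⁻¹ : GL (Fin 2) F) : Matrix (Fin 2) (Fin 2) F)).map σ := by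
    have h2 : ((cj P (dg a) : SL F) : Matrix (Fin 2) (Fin 2) F) = (P : Matrix (Fin 2) (Fin 2) F) * !![(a : F), 0; 0, ((a⁻¹ : Fˣ) : F)] *
        ((P⁻¹ : GL (Fin 2) F) : Matrix (Fin 2) (Fin 2) F) := rfl
    have h3 : (!![(a : F), 0; 0, ((a⁻¹ : Fˣ) : F)]).map σ = !![σ (a : F), 0; 0, σ ((a⁻¹ : Fˣ) : F)] := by
      ext i j
      fin_cases i <;> fin_cases j <;> simp
    have h4 := congrArg (fun M => (σ : F →+* F).mapMatrix M) h2
    simp only [map_mul] at h4
    rw [← h3]
    exact h4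
  rw [h1]
  have h2 : ((cj P (dg b) : SL F) : Matrix (Fin 2) (Fin 2) F) = (P : Matrix (Fin 2) (Fin 2) F) * !![(b : F), 0; 0, ((b⁻¹ : Fˣ) : F)] *
      ((P⁻¹ : GL (Fin 2) F) : Matrix (Fin 2) (Fin 2) F) := rfl
  rw [h2]
  -- multiply by `A σ(P)` on the right
  have h5 : (A : Matrix (Fin 2) (Fin 2) F) * ((P : Matrix (Fin 2) (Fin 2) F).map σ * !![σ (a : F), 0; 0, σ ((a⁻¹ : Fˣ) : F)] *
      (((P⁻¹ : GL (Fin 2) F) : Matrix (Fin 2) (Fin 2) F)).map σ) * ((A⁻¹ : GL (Fin 2) F) : Matrix (Fin 2) (Fin 2) F)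
      = ((A : Matrix (Fin 2) (Fin 2) F) * (P : Matrix (Fin 2) (Fin 2) F).map σ) * !![σ (a : F), 0; 0, σ ((a⁻¹ : Fˣ) : F)] *
      ((((P⁻¹ : GL (Fin 2) F) : Matrix (Fin 2) (Fin 2) F)).map σ * ((A⁻¹ : GL (Fin 2) F) : Matrix (Fin 2) (Fin 2) F)) := by
    simp only [Matrix.mul_assoc]
  rw [h5, hJ]
  have h6 : (P : Matrix (Fin 2) (Fin 2) F) * J * !![σ (a : F), 0; 0, σ ((a⁻¹ : Fˣ) : F)] *
      ((((P⁻¹ : GL (Fin 2) F) : Matrix (Fin 2) (Fin 2) F)).map σ * ((A⁻¹ : GL (Fin 2) F) : Matrix (Fin 2) (Fin 2) F))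
      = (P : Matrix (Fin 2) (Fin 2) F) * (J * !![σ (a : F), 0; 0, σ ((a⁻¹ : Fˣ) : F)]) *
      ((((P⁻¹ : GL (Fin 2) F) : Matrix (Fin 2) (Fin 2) F)).map σ * ((A⁻¹ : GL (Fin 2) F) : Matrix (Fin 2) (Fin 2) F)) := by
    simp only [Matrix.mul_assoc]
  rw [h6, hab]
  have h7 : J * ((((P⁻¹ : GL (Fin 2) F) : Matrix (Fin 2) (Fin 2) F)).map σ * ((A⁻¹ : GL (Fin 2) F) : Matrix (Fin 2) (Fin 2) F))
      = ((P⁻¹ : GL (Fin 2) F) : Matrix (Fin 2) (Fin 2) F) := by
    have h8 : J = ((P⁻¹ : GL (Fin 2) F) : Matrix (Fin 2) (Fin 2) F) * ((A : Matrix (Fin 2) (Fin 2) F) *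
        (P : Matrix (Fin 2) (Fin 2) F).map σ) := by
      rw [hJ, ← Matrix.mul_assoc, hP, Matrix.one_mul]
    rw [h8]
    calc ((P⁻¹ : GL (Fin 2) F) : Matrix (Fin 2) (Fin 2) F) * ((A : Matrix (Fin 2) (Fin 2) F) *
          (P : Matrix (Fin 2) (Fin 2) F).map σ) * ((((P⁻¹ : GL (Fin 2) F) : Matrix (Fin 2) (Fin 2) F)).map σ *
            ((A⁻¹ : GL (Fin 2) F) : Matrix (Fin 2) (Fin 2) F))
        = ((P⁻¹ : GL (Fin 2) F) : Matrix (Fin 2) (Fin 2) F) * ((A : Matrix (Fin 2) (Fin 2) F) *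
          ((P : Matrix (Fin 2) (Fin 2) F).map σ * (((P⁻¹ : GL (Fin 2) F) : Matrix (Fin 2) (Fin 2) F)).map σ) *
            ((A⁻¹ : GL (Fin 2) F) : Matrix (Fin 2) (Fin 2) F)) := by simp only [Matrix.mul_assoc]
      _ = _ := by rw [hσP, Matrix.mul_one, hA, Matrix.mul_one]
  rw [← Matrix.mul_assoc (P : Matrix (Fin 2) (Fin 2) F), Matrix.mul_assoc ((P : Matrix (Fin 2) (Fin 2) F) * _) J, h7]

/-- a torus element acting as a scalar -/
theorem sq_of_center {P : GL (Fin 2) F} {a : Fˣ} (h : cj P (dg a) ∈ Subgroup.center (SL F)) : a ^ 2 = 1 := by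
  obtain ⟨r, -, hr⟩ := Matrix.SpecialLinearGroup.mem_center_iff.mp h
  have hP : ((P⁻¹ : GL (Fin 2) F) : Matrix (Fin 2) (Fin 2) F) * (P : Matrix (Fin 2) (Fin 2) F) = 1 := by
    rw [← Units.val_mul, inv_mul_cancel, Units.val_one]
  have h2 : (P : Matrix (Fin 2) (Fin 2) F) * !![(a : F), 0; 0, ((a⁻¹ : Fˣ) : F)] *
      ((P⁻¹ : GL (Fin 2) F) : Matrix (Fin 2) (Fin 2) F) = Matrix.scalar (Fin 2) r := hr.symm
  have h3 : !![(a : F), 0; 0, ((a⁻¹ : Fˣ) : F)] = Matrix.scalar (Fin 2) r := by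
    calc !![(a : F), 0; 0, ((a⁻¹ : Fˣ) : F)] = ((P⁻¹ : GL (Fin 2) F) : Matrix (Fin 2) (Fin 2) F) * (P : Matrix (Fin 2) (Fin 2) F) *
          !![(a : F), 0; 0, ((a⁻¹ : Fˣ) : F)] * (((P⁻¹ : GL (Fin 2) F) : Matrix (Fin 2) (Fin 2) F) * (P : Matrix (Fin 2) (Fin 2) F)) := by
          rw [hP, one_mul, mul_one]
      _ = ((P⁻¹ : GL (Fin 2) F) : Matrix (Fin 2) (Fin 2) F) * ((P : Matrix (Fin 2) (Fin 2) F) *
          !![(a : F), 0; 0, ((a⁻¹ : Fˣ) : F)] * ((P⁻¹ : GL (Fin 2) F) : Matrix (Fin 2) (Fin 2) F)) * (P : Matrix (Fin 2) (Fin 2) F) := by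
          simp only [Matrix.mul_assoc]
      _ = ((P⁻¹ : GL (Fin 2) F) : Matrix (Fin 2) (Fin 2) F) * (Matrix.scalar (Fin 2) r) * (P : Matrix (Fin 2) (Fin 2) F) := by rw [h2]
      _ = Matrix.scalar (Fin 2) r := by
          rw [← (Matrix.scalar_commute r (fun _ => Commute.all _ _) _).eq, Matrix.mul_assoc, hP, mul_one]
  have h4 := congrFun (congrFun h3 0) 0
  have h5 := congrFun (congrFun h3 1) 1
  simp at h4 h5
  apply Units.ext
  rw [pow_two, Units.val_mul, Units.val_one]
  nth_rw 1 [h4]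
  rw [← h5]
  exact inv_mul_cancel₀ a.ne_zero

theorem center_of_sq {P : GL (Fin 2) F} {a : Fˣ} (h : a ^ 2 = 1) : cj P (dg a) ∈ Subgroup.center (SL F) := by
  rw [Matrix.SpecialLinearGroup.mem_center_iff]
  have ha : a⁻¹ = a := by
    rw [inv_eq_iff_mul_eq_one, ← pow_two, h]
  refine ⟨a, ?_, ?_⟩
  · rw [Fintype.card_fin, ← Units.val_pow_eq_pow_val, h, Units.val_one]
  · have h2 : ((cj P (dg a) : SL F) : Matrix (Fin 2) (Fin 2) F) = (P : Matrix (Fin 2) (Fin 2) F) * !![(a : F), 0; 0, ((a⁻¹ : Fˣ) : F)] *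
      ((P⁻¹ : GL (Fin 2) F) : Matrix (Fin 2) (Fin 2) F) := rfl
    have h3 : (!![(a : F), 0; 0, (a : F)] : Matrix (Fin 2) (Fin 2) F) = Matrix.scalar (Fin 2) (a : F) := by
      ext i j
      fin_cases i <;> fin_cases j <;> simp
    have hP : (P : Matrix (Fin 2) (Fin 2) F) * ((P⁻¹ : GL (Fin 2) F) : Matrix (Fin 2) (Fin 2) F) = 1 := by
      rw [← Units.val_mul, mul_inv_cancel, Units.val_one]
    rw [h2, ha, h3, ← (Matrix.scalar_commute (a : F) (fun _ => Commute.all _ _) (P : Matrix (Fin 2) (Fin 2) F)).eq, Matrix.mul_assoc, hP, mul_one]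

end torus

/-- an element of `N` acts as an inner automorphism -/
theorem acts_mem' {G F : Type*} [Group G] [Field F] {N : Subgroup G} {e : N ≃* PS F} (n : N) (s : SL F)
    (h : e n = QuotientGroup.mk s) : Acts e (n : G) (Matrix.SpecialLinearGroup.toGL s) 1 := by
  intro m m' t t' hm ht he
  have h1 : m' = n * m * n⁻¹ := Subtype.ext hm
  have h2 : t' = s * t * s⁻¹ := by
    apply Subtype.ext
    rw [ht]
    rfl
  rw [h1, map_mul, map_mul, map_inv, h, he, h2]
  rfl

/-- **The swapping involution** (`hI` = part I for `G`, `Ω`, `e`). -/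
theorem swap_of {G Ω F ι : Type*} [Group G] [Finite G] [MulAction G Ω] [Nonempty Ω] [Field F] [Finite F]
    {N : Subgroup G} (hE : Env G Ω N) (e : N ≃* PS F)
    (hI : ∀ (x : ι → G) (r : ι → ℕ) (A : ι → GL (Fin 2) F) (σ : ι → F ≃+* F)
      (_ : ∀ i, Acts e (x i) (A i) (σ i)) (_ : ∀ i, (r i).Prime) (_ : ∀ i, x i ^ r i = 1)
      (_ : ∀ i, x i ≠ 1) (_ : ∀ i j, x i * x j = x j * x i)
      (_ : ∀ i j, r i = ringChar F → r j = ringChar F → i = j)
      (_ : ∀ i j, σ i ≠ 1 → σ j ≠ 1 → r i = r j → i = j)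
      (v : Fin 2 → F) (_ : v ≠ 0) (_ : ∀ i, FixL (A i) (σ i) v), ∃ ω : Ω, ∀ i, x i • ω ≠ ω)
    (h16 : 16 ≤ Nat.card F)
    [Finite ι] (x : ι → G) (r : ι → ℕ) (h : PF x r) (A : ι → GL (Fin 2) F) (σ : ι → F ≃+* F)
    (hA : ∀ i, Acts e (x i) (A i) (σ i)) (k : ι) (hk : σ k ≠ 1) (hr : r k = 2) (h1 : ∀ i, i ≠ k → σ i = 1)
    (v w : Fin 2 → F) (hvw : LinearIndependent F ![v, w])
    (hi : ∀ i, i ≠ k → FixL (A i) (σ i) v ∧ FixL (A i) (σ i) w)
    (hv : ∃ c : F, (A k : Matrix (Fin 2) (Fin 2) F) *ᵥ (fun i => σ k (v i)) = c • w)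
    (hw : ∃ c : F, (A k : Matrix (Fin 2) (Fin 2) F) *ᵥ (fun i => σ k (w i)) = c • v) : ¬ Cov Ω x := by
  classical
  intro hcov
  have hN : N.Normal := hE.norm
  -- the basis
  let Q : Matrix (Fin 2) (Fin 2) F := !![v 0, w 0; v 1, w 1]
  have hQ : Q.det ≠ 0 := by
    intro h0
    rw [Matrix.det_fin_two_of] at h0
    rw [LinearIndependent.pair_iff] at hvw
    have e1 := hvw (w 0) (-v 0) (by
      ext i
      fin_cases i
      · show w 0 * v 0 + -v 0 * w 0 = 0
        ring
      · show w 0 * v 1 + -v 0 * w 1 = 0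
        linear_combination -h0)
    have e2 := hvw (w 1) (-v 1) (by
      ext i
      fin_cases i
      · show w 1 * v 0 + -v 1 * w 0 = 0
        linear_combination h0
      · show w 1 * v 1 + -v 1 * w 1 = 0
        ring)
    have e3 := hvw 1 0 (by
      ext i
      fin_cases i
      · show 1 * v 0 + 0 * w 0 = 0
        linear_combination -e1.2
      · show 1 * v 1 + 0 * w 1 = 0
        linear_combination -e2.2)
    exact one_ne_zero e3.1
  let P : GL (Fin 2) F := Matrix.GeneralLinearGroup.mkOfDetNeZero Q hQ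
  have hP : (P : Matrix (Fin 2) (Fin 2) F) = Q := rfl
  let σk := σ k
  -- the torus
  let τ : Fˣ →* G := N.subtype.comp (e.symm.toMonoidHom.comp ((QuotientGroup.mk' (Subgroup.center (SL F))).comp ((cj P).comp dg)))
  have hτ : ∀ a, τ a = ((e.symm (QuotientGroup.mk (cj P (dg a))) : N) : G) := fun a => rfl
  have hτN : ∀ a, τ a ∈ N := fun a => (e.symm (QuotientGroup.mk (cj P (dg a)))).2
  have hτ1 : ∀ a, τ a = 1 ↔ a ^ 2 = 1 := by
    intro a
    rw [hτ, OneMemClass.coe_eq_one, map_eq_one_iff e.symm e.symm.injective]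
    constructor
    · intro h2
      exact sq_of_center ((QuotientGroup.eq_one_iff _).mp h2)
    · intro h2
      exact (QuotientGroup.eq_one_iff _).mpr (center_of_sq h2)
  -- conjugation
  have hconj : ∀ (g : G) (B : GL (Fin 2) F) (ρ : F ≃+* F) (J : Matrix (Fin 2) (Fin 2) F) (a b : Fˣ), Acts e g B ρ →
      (B : Matrix (Fin 2) (Fin 2) F) * (P : Matrix (Fin 2) (Fin 2) F).map ρ = (P : Matrix (Fin 2) (Fin 2) F) * J →
      J * !![ρ (a : F), 0; 0, ρ ((a⁻¹ : Fˣ) : F)] = !![(b : F), 0; 0, ((b⁻¹ : Fˣ) : F)] * J → g * τ a * g⁻¹ = τ b := by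
    intro g B ρ J a b hg hJ hab
    have h2 := hg (e.symm (QuotientGroup.mk (cj P (dg a)))) ⟨g * τ a * g⁻¹, hN.conj_mem _ (hτN a) g⟩ (cj P (dg a)) (cj P (dg b)) rfl
      (conj_diag hJ hab) (e.apply_symm_apply _)
    rw [hτ b, ← h2, e.symm_apply_apply]
  have hj : ∀ j, j ≠ k → ∀ a, x j * τ a * (x j)⁻¹ = τ a := by
    intro j hjk a
    obtain ⟨⟨c, hc⟩, ⟨d, hd⟩⟩ := hi j hjk
    have hone : ∀ a : F, (1 : F ≃+* F) a = a := fun _ => rfl
    rw [h1 j hjk] at hc hd
    have hAj := hA j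
    rw [h1 j hjk] at hAj
    refine hconj (x j) (A j) 1 !![c, 0; 0, d] a a hAj ?_ ?_
    · have c0 := congrFun hc 0
      have c1 := congrFun hc 1
      have d0 := congrFun hd 0
      have d1 := congrFun hd 1
      simp only [Matrix.mulVec, dotProduct, Fin.sum_univ_two, Pi.smul_apply, smul_eq_mul, hone] at c0 c1 d0 d1
      rw [hP]
      ext i l
      fin_cases i <;> fin_cases l <;>
        simp only [Q, Matrix.mul_apply, Fin.sum_univ_two, Matrix.map_apply, hone, Fin.zero_eta, Fin.mk_one, Matrix.of_apply,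
          Matrix.cons_val', Matrix.cons_val_zero, Matrix.cons_val_one, Matrix.cons_val_fin_one]
      · linear_combination c0
      · linear_combination d0
      · linear_combination c1
      · linear_combination d1
    · rw [hone, hone, Matrix.mul_fin_two, Matrix.mul_fin_two]
      ext i l
      fin_cases i <;> fin_cases l <;> simp [mul_comm]
  have hkk : ∀ a : Fˣ, x k * τ a * (x k)⁻¹ = τ ((Units.map (σ k : F →* F) a)⁻¹) := by
    intro a
    obtain ⟨c, hc⟩ := hv
    obtain ⟨d, hd⟩ := hw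
    refine hconj (x k) (A k) (σ k) !![0, d; c, 0] a _ (hA k) ?_ ?_
    · have c0 := congrFun hc 0
      have c1 := congrFun hc 1
      have d0 := congrFun hd 0
      have d1 := congrFun hd 1
      simp only [Matrix.mulVec, dotProduct, Fin.sum_univ_two, Pi.smul_apply, smul_eq_mul] at c0 c1 d0 d1
      rw [hP]
      ext i l
      fin_cases i <;> fin_cases l <;>
        simp only [Q, Matrix.mul_apply, Fin.sum_univ_two, Matrix.map_apply, Fin.zero_eta, Fin.mk_one, Matrix.of_apply,
          Matrix.cons_val', Matrix.cons_val_zero, Matrix.cons_val_one, Matrix.cons_val_fin_one]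
      · linear_combination c0
      · linear_combination d0
      · linear_combination c1
      · linear_combination d1
    · rw [inv_inv, Matrix.mul_fin_two, Matrix.mul_fin_two]
      have e1 : ((Units.map (σ k : F →* F) a : Fˣ) : F) = σ k (a : F) := rfl
      have e2 : (((Units.map (σ k : F →* F) a)⁻¹ : Fˣ) : F) = σ k ((a⁻¹ : Fˣ) : F) := rfl
      rw [e1, e2]
      ext i l
      fin_cases i <;> fin_cases l <;> simp [mul_comm]
  -- `σ k ^ 2 = 1`
  have hσ2 : ∀ a, σ k (σ k a) = a := by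
    have h2 : x k ^ 2 = 1 := by rw [← hr]; exact h.pow k
    have h3 : ∀ a : Fˣ, σ k (σ k (a : F)) = a ∨ σ k (σ k (a : F)) = -a := by
      intro a
      have h4 := hkk a
      have h5 := hkk ((Units.map (σ k : F →* F) a)⁻¹)
      rw [← h4] at h5
      have h6 : x k * (x k * τ a * (x k)⁻¹) * (x k)⁻¹ = τ a := by
        have h7 : x k * (x k * τ a * (x k)⁻¹) * (x k)⁻¹ = x k ^ 2 * τ a * (x k ^ 2)⁻¹ := by
          rw [pow_two]; group
        rw [h7, h2]; group
      rw [h6, ← map_inv, inv_inv] at h5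
      have h8 : τ (a * (Units.map (σ k : F →* F) (Units.map (σ k : F →* F) a))⁻¹) = 1 := by
        rw [map_mul, map_inv, ← h5, mul_inv_cancel]
      rw [hτ1, mul_pow, inv_pow, mul_inv_eq_one] at h8
      have h9 := congrArg Units.val h8
      rw [Units.val_pow_eq_pow_val, Units.val_pow_eq_pow_val] at h9
      exact sq_eq_sq_iff_eq_or_eq_neg.mp h9.symm
    have h3' : ∀ a : F, σ k (σ k a) = a ∨ σ k (σ k a) = -a := by
      intro a
      by_cases ha : a = 0
      · left
        rw [ha, map_zero, map_zero]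
      · exact h3 (Units.mk0 a ha)
    intro a
    rcases h3' a with h4 | h4
    · exact h4
    · rcases h3' (a + 1) with h5 | h5
      · rw [map_add, map_add, map_one, map_one] at h5
        linear_combination h5
      · rw [map_add, map_add, map_one, map_one, h4] at h5
        have h6 : (1 : F) = -1 := by linear_combination h5
        rw [h4]
        linear_combination -a * h6
  -- the element `ν`
  obtain ⟨u, hu, hu0, hu2⟩ := exists_fixed (σ k) hσ2 h16
  let U : Fˣ := Units.mk0 u hu0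
  have hU2 : U ^ 2 ≠ 1 := by
    intro h2
    apply hu2
    have := congrArg Units.val h2
    rwa [Units.val_pow_eq_pow_val, Units.val_mk0, Units.val_one] at this
  obtain ⟨l, hl, hd⟩ := Nat.exists_prime_and_dvd (n := orderOf (U ^ 2)) (fun h2 => hU2 (orderOf_eq_one_iff.mp h2))
  obtain ⟨m, hm⟩ := hd
  have hmpos : 0 < m := by
    rcases Nat.eq_zero_or_pos m with h2 | h2
    · rw [h2, mul_zero] at hm
      have := orderOf_pos (U ^ 2)
      omega
    · exact h2
  have hνord : orderOf ((U ^ m) ^ 2) = l := by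
    have h2 : (U ^ m) ^ 2 = (U ^ 2) ^ m := by rw [← pow_mul, ← pow_mul, mul_comm]
    rw [h2, orderOf_pow' _ hmpos.ne', hm, Nat.gcd_eq_right (Dvd.intro_left l rfl), Nat.mul_div_cancel _ hmpos]
  have hν : σ k ((U ^ m : Fˣ) : F) = ((U ^ m : Fˣ) : F) := by
    rw [Units.val_pow_eq_pow_val, map_pow, Units.val_mk0, hu]
  obtain ⟨μ, hμ⟩ := exists_norm (σ k) hσ2 hk hν (U ^ m).ne_zero
  have hμ' : μ * Units.map (σ k : F →* F) μ = U ^ m := Units.ext hμ
  -- the new family
  have hc := hcov.mv_comm k (c := τ μ) (fun j hjk => by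
    have h2 := hj j hjk μ
    rw [mul_inv_eq_iff_eq_mul] at h2
    exact h2.symm)
  have hy : τ μ * x k * (τ μ)⁻¹ * (x k)⁻¹ = τ (U ^ m) := by
    have h2 := hkk μ⁻¹
    rw [map_inv (Units.map (σ k : F →* F)), inv_inv] at h2
    rw [← hμ', map_mul, ← h2, map_inv]
    group
  rw [hy] at hc
  have hyN : τ (U ^ m) ∈ N := hτN _
  have hyl : τ (U ^ m) ^ l = 1 := by
    rw [← map_pow, hτ1, ← pow_mul, mul_comm, pow_mul, ← hνord, pow_orderOf_eq_one]
  have hy1 : τ (U ^ m) ≠ 1 := by
    intro h2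
    rw [hτ1] at h2
    rw [h2, orderOf_one] at hνord
    exact hl.one_lt.ne hνord
  have hlp : l ≠ ringChar F := by
    intro h2
    have h3 : ((U ^ m) ^ 2) ^ l = 1 := by rw [← hνord]; exact pow_orderOf_eq_one _
    have : Fact l.Prime := ⟨hl⟩
    have : CharP F l := by rw [h2]; infer_instance
    have h4 : ((((U ^ m) ^ 2 : Fˣ) : F) - 1) ^ l = 0 := by
      rw [sub_pow_char, one_pow, ← Units.val_pow_eq_pow_val, h3, Units.val_one, sub_self]
    have h5 := pow_eq_zero_iff hl.ne_zero |>.mp h4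
    have h6 : (U ^ m) ^ 2 = 1 := Units.ext (by rw [Units.val_one]; exact sub_eq_zero.mp h5)
    rw [h6, orderOf_one] at hνord
    exact hl.one_lt.ne hνord
  have hycomm : ∀ j, j ≠ k → τ (U ^ m) * x j = x j * τ (U ^ m) := by
    intro j hjk
    have h2 := hj j hjk (U ^ m)
    rw [mul_inv_eq_iff_eq_mul] at h2
    exact h2.symm
  have hv0 : v ≠ 0 := by
    intro h2
    have h3 := hvw.ne_zero 0
    exact h3 (by simpa using h2)
  obtain ⟨ω, hω⟩ := hI (Function.update x k (τ (U ^ m))) (Function.update r k l)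
    (Function.update A k (Matrix.SpecialLinearGroup.toGL (cj P (dg (U ^ m))))) (fun _ => 1)
    (by
      intro i
      by_cases hik : i = k
      · subst hik
        rw [Function.update_self, Function.update_self]
        exact acts_mem' _ _ (e.apply_symm_apply _)
      · rw [Function.update_of_ne hik, Function.update_of_ne hik]
        have := hA i
        rwa [h1 i hik] at this)
    (by
      intro i
      by_cases hik : i = k
      · subst hik
        rw [Function.update_self]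
        exact hl
      · rw [Function.update_of_ne hik]
        exact h.prime i)
    (by
      intro i
      by_cases hik : i = k
      · subst hik
        rw [Function.update_self, Function.update_self]
        exact hyl
      · rw [Function.update_of_ne hik, Function.update_of_ne hik]
        exact h.pow i)
    (by
      intro i
      by_cases hik : i = k
      · subst hik
        rw [Function.update_self]
        exact hy1
      · rw [Function.update_of_ne hik]
        exact h.ne i)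
    (by
      intro i j
      by_cases hik : i = k
      · by_cases hjk : j = k
        · rw [hik, hjk]
        · subst hik
          rw [Function.update_self, Function.update_of_ne hjk]
          exact hycomm j hjk
      · by_cases hjk : j = k
        · subst hjk
          rw [Function.update_self, Function.update_of_ne hik]
          exact (hycomm i hik).symm
        · rw [Function.update_of_ne hik, Function.update_of_ne hjk]
          exact h.comm i j)
    (by
      intro i j hi' hj'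
      by_cases hik : i = k
      · subst hik
        rw [Function.update_self] at hi'
        exact absurd hi' hlp
      · by_cases hjk : j = k
        · subst hjk
          rw [Function.update_self] at hj'
          exact absurd hj' hlp
        · rw [Function.update_of_ne hik] at hi'
          rw [Function.update_of_ne hjk] at hj'
          exact h.inj (hi'.trans hj'.symm))
    (fun i j h2 => absurd rfl h2) v hv0
    (by
      intro i
      by_cases hik : i = k
      · subst hik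
        rw [Function.update_self]
        refine ⟨((U ^ m : Fˣ) : F), ?_⟩
        have h2 : ((Matrix.SpecialLinearGroup.toGL (cj P (dg (U ^ m))) : GL (Fin 2) F) : Matrix (Fin 2) (Fin 2) F) =
            (P : Matrix (Fin 2) (Fin 2) F) * !![((U ^ m : Fˣ) : F), 0; 0, (((U ^ m)⁻¹ : Fˣ) : F)] *
              ((P⁻¹ : GL (Fin 2) F) : Matrix (Fin 2) (Fin 2) F) := rfl
        have h3 : (P : Matrix (Fin 2) (Fin 2) F) *ᵥ ![1, 0] = v := by
          rw [hP]
          ext j
          fin_cases j <;> simp [Q, Matrix.mulVec, dotProduct, Fin.sum_univ_two]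
        have h4 : ((P⁻¹ : GL (Fin 2) F) : Matrix (Fin 2) (Fin 2) F) *ᵥ v = ![1, 0] := by
          rw [← h3, Matrix.mulVec_mulVec, ← Units.val_mul, inv_mul_cancel, Units.val_one, Matrix.one_mulVec]
        show _ *ᵥ v = _
        rw [h2, ← Matrix.mulVec_mulVec, h4, ← Matrix.mulVec_mulVec]
        have h5 : !![((U ^ m : Fˣ) : F), 0; 0, (((U ^ m)⁻¹ : Fˣ) : F)] *ᵥ ![1, 0] = ((U ^ m : Fˣ) : F) • ![1, 0] := by
          ext j
          fin_cases j <;> simp [Matrix.mulVec, dotProduct, Fin.sum_univ_two]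
        rw [h5, Matrix.mulVec_smul, h3]
      · rw [Function.update_of_ne hik]
        have := (hi i hik).1
        rwa [h1 i hik] at this)
  obtain ⟨i, hi'⟩ := hc ω
  exact hω i hi'

end Cfsg.Agent.H366.RC
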